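import Mathlib

/-!
# Helper24 — S10832: zero-dimensional schemes of finite type over a field
-/

set_option autoImplicit false
set_option linter.style.haveILetI false
universe u

open CategoryTheory AlgebraicGeometry Limits TopologicalSpace Opposite

namespace Groth.Agent.Lib.Helper24.DimZero

/-- on a discrete scheme, global sections are families of germs -/
theorem bijective_germs (X : Scheme.{u}) [DiscreteTopology X] :
    Function.Bijective (fun s : Γ(X, ⊤) => fun x : X => X.presheaf.germ ⊤ x trivial s) := by
  constructor
  · intro s t hst
    refine TopCat.Presheaf.section_ext X.sheaf ⊤ s t (fun x hx => ?_)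
    exact congrFun hst x
  · intro g
    -- representatives on the singletons
    let V : X → X.Opens := fun x => ⟨{x}, isOpen_discrete _⟩
    have hV : ∀ x : X, x ∈ V x := fun x => Set.mem_singleton x
    have hrep : ∀ x : X, ∃ s : Γ(X, V x), X.presheaf.germ (V x) x (hV x) s = g x := by
      intro x
      obtain ⟨U, m, s, hs⟩ := TopCat.Presheaf.exists_germ_eq X.presheaf (g x)
      have hle : V x ≤ U := by
        intro y hy
        have : y = x := hy
        rw [this]; exact m
      refine ⟨X.presheaf.map (homOfLE hle).op s, ?_⟩
      rw [TopCat.Presheaf.germ_res_apply]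
      exact hs
    choose sf hsf using hrep
    have hcompat : TopCat.Presheaf.IsCompatible X.presheaf V sf := by
      intro x y
      by_cases hxy : x = y
      · subst hxy
        rfl
      · have hbot : V x ⊓ V y = ⊥ := by
          ext z
          simp only [Opens.coe_inf, Set.mem_inter_iff, Opens.coe_bot, Set.mem_empty_iff_false,
            iff_false, not_and]
          intro h1 h2
          have e1 : z = x := h1
          have e2 : z = y := h2
          exact hxy (e1.symm.trans e2)
        haveI : Subsingleton Γ(X, V x ⊓ V y) := by
          rw [hbot]; infer_instance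
        exact Subsingleton.elim _ _
    obtain ⟨s, hs, -⟩ := TopCat.Sheaf.existsUnique_gluing' X.sheaf V ⊤ (fun x => homOfLE le_top)
      (fun x _ => Opens.mem_iSup.2 ⟨x, rfl⟩) sf hcompat
    refine ⟨s, ?_⟩
    funext x
    have h1 := hs x
    change X.presheaf.germ ⊤ x trivial s = g x
    rw [← hsf x, ← h1]
    exact (TopCat.Presheaf.germ_res_apply X.presheaf (homOfLE le_top) x (hV x) s).symm

set_option backward.isDefEq.respectTransparency.types false in
/-- **S10832** -/
theorem main10832 (k : Type u) [Field k] {X : Scheme.{u}} [Nonempty X]
    (f : X ⟶ Spec (CommRingCat.of k)) [LocallyOfFiniteType f] [QuasiCompact f] :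
    [topologicalKrullDim ↥X = 0,
      IsAffine X ∧ f.appTop.hom.Finite ∧
        Function.Bijective (fun s : Γ(X, ⊤) => fun x : X => X.presheaf.germ ⊤ x trivial s),
      DiscreteTopology ↥X,
      Finite ↥X].TFAE := by
  haveI : IsLocallyNoetherian X := LocallyOfFiniteType.isLocallyNoetherian f
  haveI : CompactSpace X := QuasiCompact.compactSpace_of_compactSpace f
  tfae_have 1 → 3 := fun h => by
    haveI := IsLocallyArtinian.of_topologicalKrullDim_le_zero (X := X) h.le
    infer_instance
  tfae_have 3 → 4 := fun h => finite_of_compact_of_discrete
  tfae_have 4 → 1 := fun h => by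
    haveI : LocallyQuasiFinite f :=
      LocallyQuasiFinite.of_finite_preimage_singleton f (fun x => Set.toFinite _)
    haveI : IsLocallyArtinian X := IsLocallyArtinian.of_locallyQuasiFinite f
    haveI : DiscreteTopology X := inferInstance
    refine le_antisymm (topologicalKrullDim_zero_of_discreteTopology X) ?_
    haveI : Nonempty (IrreducibleCloseds X) := by
      obtain ⟨x⟩ := ‹Nonempty X›
      exact ⟨⟨closure {x}, isIrreducible_singleton.closure, isClosed_closure⟩⟩
    exact Order.krullDim_nonneg
  tfae_have 3 → 2 := fun h => by
    haveI := h
    haveI : LocallyQuasiFinite f :=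
      locallyQuasiFinite_iff_isDiscrete_preimage_singleton.2
        (fun x => IsDiscrete.univ.mono (Set.subset_univ _))
    haveI : IsFinite f := IsFinite.of_locallyQuasiFinite f
    haveI : IsAffine X := isAffine_of_isAffineHom f
    exact ⟨inferInstance, f.finite_appTop, bijective_germs X⟩
  tfae_have 2 → 4 := fun ⟨h1, h2, _⟩ => by
    haveI := h1
    haveI : IsFinite f := by
      rw [HasAffineProperty.iff_of_isAffine (P := @IsFinite)]
      exact ⟨h1, h2⟩
    have hfin := f.finite_preimage_singleton (IsLocalRing.closedPoint k)
    have huniv : (Set.univ : Set X).Finite :=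
      hfin.subset (fun x _ => Subsingleton.elim (α := PrimeSpectrum k) _ _)
    exact Set.finite_univ_iff.1 huniv
  tfae_finish

end Groth.Agent.Lib.Helper24.DimZero
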